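import Groth.Agent.CILib.KoszulCalc
import Groth.Agent.RelDivLib.FlatSeq
import Mathlib.Algebra.Category.ModuleCat.Monoidal.Symmetric

/-!
# Powers of Koszul-regular sequences and flat coefficients
-/

set_option autoImplicit false
set_option linter.style.haveILetI false
set_option backward.isDefEq.respectTransparency false

universe u

open CategoryTheory CategoryTheory.Limits CochainComplex MonoidalCategory

noncomputable section

namespace Groth.Agent.LocVanLib

open Groth.Agent.KoszulCech Groth.Agent.KosStableLib Groth.Agent.CILib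

variable {A : Type u} [CommRing A]

theorem ex_cone_mul {K : CochainComplex (ModuleCat.{u} A) ℤ} (a b : A) (k : ℤ)
    (ha : Ex (mappingCone (a • 𝟙 K)) k) (hb : Ex (mappingCone (b • 𝟙 K)) k) :
    Ex (mappingCone ((a * b) • 𝟙 K)) k := by
  intro z hz
  let φa := a • 𝟙 K
  let φb := b • 𝟙 K
  let φ := (a * b) • 𝟙 K
  let x := cfst φ k (k + 1) rfl z
  let y := csnd φ k z
  have h1 : K.d (k + 1) (k + 1 + 1) x = 0 := by
    have h := congrArg (cfst φ (k + 1) (k + 1 + 1) rfl) hz
    rw [cfst_d φ rfl rfl, map_zero, neg_eq_zero] at h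
    exact h
  have h2 : (a * b) • x + K.d k (k + 1) y = 0 := by
    have h := congrArg (csnd φ (k + 1)) hz
    rw [csnd_d φ rfl, smulId_f_apply, map_zero] at h
    exact h
  obtain ⟨w, hw⟩ := hb (cmk φb k (k + 1) rfl (a • x) y) (by
    refine cone_ext φb (rfl : k + 1 + 1 = k + 1 + 1) ?_ ?_
    · rw [cfst_d φb rfl rfl, cfst_cmk, map_smul, h1, smul_zero, neg_zero, map_zero]
    · rw [csnd_d φb rfl, cfst_cmk, csnd_cmk, smulId_f_apply, smul_smul, mul_comm, h2, map_zero])
  let u := cfst φb (k - 1) k (by omega) w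
  let v := csnd φb (k - 1) w
  have h3 : -(K.d k (k + 1) u) = a • x := by
    have h := congrArg (cfst φb k (k + 1) rfl) hw
    rwa [cfst_d φb (by omega) rfl, cfst_cmk] at h
  have h4 : b • u + K.d (k - 1) k v = y := by
    have h := congrArg (csnd φb k) hw
    rwa [csnd_d φb (by omega), smulId_f_apply, csnd_cmk] at h
  obtain ⟨s, hs⟩ := ha (cmk φa k (k + 1) rfl x u) (by
    refine cone_ext φa (rfl : k + 1 + 1 = k + 1 + 1) ?_ ?_
    · rw [cfst_d φa rfl rfl, cfst_cmk, h1, neg_zero, map_zero]
    · rw [csnd_d φa rfl, cfst_cmk, csnd_cmk, smulId_f_apply, map_zero, ← h3, neg_add_cancel])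
  let p := cfst φa (k - 1) k (by omega) s
  let q := csnd φa (k - 1) s
  have h5 : -(K.d k (k + 1) p) = x := by
    have h := congrArg (cfst φa k (k + 1) rfl) hs
    rwa [cfst_d φa (by omega) rfl, cfst_cmk] at h
  have h6 : a • p + K.d (k - 1) k q = u := by
    have h := congrArg (csnd φa k) hs
    rwa [csnd_d φa (by omega), smulId_f_apply, csnd_cmk] at h
  refine ⟨cmk φ (k - 1) k (by omega) p (b • q + v), cone_ext φ rfl ?_ ?_⟩
  · rw [cfst_d φ (by omega) rfl, cfst_cmk]
    exact h5
  · rw [csnd_d φ (by omega), cfst_cmk, csnd_cmk, smulId_f_apply, map_add, map_smul,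
      show csnd φ k z = y from rfl, ← h4, ← h6, smul_add, smul_smul, mul_comm b a, add_assoc]

theorem ex_cone_one (K : CochainComplex (ModuleCat.{u} A) ℤ) (k : ℤ) :
    Ex (mappingCone ((1 : A) • 𝟙 K)) k := by
  intro z hz
  let φ := (1 : A) • 𝟙 K
  have h2 : cfst φ k (k + 1) rfl z + K.d k (k + 1) (csnd φ k z) = 0 := by
    have h := congrArg (csnd φ (k + 1)) hz
    rwa [csnd_d φ rfl, smulId_f_apply, map_zero, one_smul] at h
  refine ⟨cmk φ (k - 1) k (by omega) (csnd φ k z) 0, cone_ext φ rfl ?_ ?_⟩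
  · rw [cfst_d φ (by omega) rfl, cfst_cmk]
    exact neg_eq_of_add_eq_zero_left h2
  · rw [csnd_d φ (by omega), cfst_cmk, csnd_cmk, smulId_f_apply, map_zero, add_zero, one_smul]

theorem isKoszulRegularSeq_pow_cons {f : A} {l : List A} (h : LCI.IsKoszulRegularSeq A (f :: l)) (n : ℕ) :
    LCI.IsKoszulRegularSeq A (f ^ n :: l) := by
  rw [isKoszulRegularSeq_iff_ex] at h ⊢
  intro k hk
  show Ex (mappingCone (f ^ n • 𝟙 (Koszul.koszul A l))) k
  induction n with
  | zero => rw [pow_zero]; exact ex_cone_one _ k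
  | succ n ih => rw [pow_succ]; exact ex_cone_mul _ _ k ih (h k hk)

theorem isKoszulRegularSeq_map_pow (n : ℕ) : ∀ (l r : List A), LCI.IsKoszulRegularSeq A (l ++ r) →
    LCI.IsKoszulRegularSeq A (l.map (· ^ n) ++ r)
  | [], _, h => h
  | f :: l, r, h => by
    have h1 : LCI.IsKoszulRegularSeq A (l ++ f :: r) :=
      isKoszulRegularSeq_perm List.perm_middle.symm h
    have h2 := isKoszulRegularSeq_map_pow n l (f :: r) h1
    exact isKoszulRegularSeq_pow_cons (isKoszulRegularSeq_perm List.perm_middle h2) n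

variable (M : Type u) [AddCommGroup M] [Module A M]

theorem nonempty_tensor_koszul : ∀ l : List A,
    Nonempty (((tensorLeft (ModuleCat.of A M)).mapHomologicalComplex (ComplexShape.up ℤ)).obj
      (Koszul.koszul A l) ≅ CohIII.koszulCx (ModuleCat.of A M) l)
  | [] => ⟨(HomologicalComplex.singleMapHomologicalComplex (tensorLeft (ModuleCat.of A M))
      (ComplexShape.up ℤ) 0).app (ModuleCat.of A A) ≪≫
      (HomologicalComplex.single (ModuleCat.{u} A) (ComplexShape.up ℤ) 0).mapIso (ρ_ (ModuleCat.of A M))⟩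
  | f :: l => by
    obtain ⟨e⟩ := nonempty_tensor_koszul l
    refine ⟨CochainComplex.mappingCone.mapHomologicalComplexIso _ _ ≪≫
      RelDivLib.mappingConeCongr _ _ e e ?_⟩
    rw [show ((tensorLeft (ModuleCat.of A M)).mapHomologicalComplex (ComplexShape.up ℤ)).map
      (f • 𝟙 (Koszul.koszul A l)) = f • 𝟙 _ from HomologicalComplex.hom_ext _ _ fun i => by
        simp]
    rw [Linear.smul_comp, Linear.comp_smul, Category.id_comp, Category.comp_id]

theorem isZero_koszulHPow [Module.Flat A M] {l : List A} (hl : LCI.IsKoszulRegularSeq A l) (n i : ℕ)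
    (hi : i ≠ l.length) : IsZero (CohIII.koszulHPow l (ModuleCat.of A M) i n) := by
  have h1 : LCI.IsKoszulRegularSeq A (l.map (· ^ n)) := by
    have := isKoszulRegularSeq_map_pow n l [] (by rwa [List.append_nil])
    rwa [List.append_nil] at this
  obtain ⟨e⟩ := nonempty_tensor_koszul M (l.map (· ^ n))
  haveI : PreservesFiniteLimits (tensorLeft (ModuleCat.of A M)) :=
    ((Module.Flat.iff_preservesFiniteLimits_tensorLeft (ModuleCat.of A M)).1
      (inferInstanceAs (Module.Flat A M)))
  exact IsZero.of_iso ((tensorLeft (ModuleCat.of A M)).map_isZero (h1 ((i : ℤ) - l.length) (by omega)))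
    (((HomologicalComplex.homologyFunctor (ModuleCat.{u} A) (ComplexShape.up ℤ) _).mapIso e).symm ≪≫
      (ShortComplex.mapHomologyIso ((Koszul.koszul A (l.map (· ^ n))).sc ((i : ℤ) - l.length))
        (tensorLeft (ModuleCat.of A M))))

theorem subsingleton_koszulHLim [Module.Flat A M] {l : List A} (hl : LCI.IsKoszulRegularSeq A l) (i : ℕ)
    (hi : i ≠ l.length) : Subsingleton (CohIII.koszulHLim l (ModuleCat.of A M) i) := by
  classical
  refine subsingleton_of_forall_eq 0 fun x => ?_
  obtain ⟨n, y, rfl⟩ := Module.DirectLimit.exists_of x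
  haveI := ModuleCat.subsingleton_of_isZero (isZero_koszulHPow M hl n i hi)
  rw [Subsingleton.elim y 0, map_zero]

end Groth.Agent.LocVanLib
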