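import Groth.Agent.LocVanLib.Main
import Groth.Agent.LocVanLib.Koszul
import Groth.Agent.LocZLib.DepthCrit
import Groth.Agent.PullbackMod.FibreRank

/-!
# Local cohomology sheaves of flat modules along Koszul-regular loci
-/

set_option autoImplicit false
set_option backward.isDefEq.respectTransparency false
set_option linter.style.haveILetI false
universe u

open CategoryTheory CategoryTheory.Limits AlgebraicGeometry TopologicalSpace Opposite

noncomputable section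

namespace Groth.Agent.LocVanLib

open Groth.Agent.LocZLib

variable {X : Scheme.{u}}

theorem isFlat_sections (F : X.Modules) [Coh.IsQCoh F] (hFl : FlatMod.IsFlat F) {W : X.Opens}
    (hW : IsAffineOpen W) :
    Module.Flat Γ(W.toScheme, ⊤) ((F.restrict W.ι).val.obj (op ⊤) : Type u) := by
  have hW' : IsAffineOpen (W.ι ''ᵁ ⊤) := by rwa [W.ι_image_top]
  haveI := PullbackMod.flat_sections_of_flat_stalks F hW' (fun x => hFl x)
  letI : Module Γ(W.toScheme, ⊤) Γ(F, W.ι ''ᵁ ⊤) :=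
    Module.compHom _ (show Γ(W.toScheme, ⊤) →+* Γ(X, W.ι ''ᵁ ⊤) from RingHom.id Γ(X, W.ι ''ᵁ ⊤))
  haveI : Module.Flat Γ(W.toScheme, ⊤) Γ(F, W.ι ''ᵁ ⊤) :=
    inferInstanceAs (Module.Flat Γ(X, W.ι ''ᵁ ⊤) Γ(F, W.ι ''ᵁ ⊤))
  let eM : ((F.restrict W.ι).val.obj (op ⊤) : Type u) ≃ₗ[Γ(W.toScheme, ⊤)] Γ(F, W.ι ''ᵁ ⊤) :=
    { toFun := fun s => s
      invFun := fun s => s
      left_inv := fun _ => rfl
      right_inv := fun _ => rfl
      map_add' := fun _ _ => rfl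
      map_smul' := fun a s => by
        show (W.ι.appIso ⊤).inv a • (show Γ(F, W.ι ''ᵁ ⊤) from s) = a • (show Γ(F, W.ι ''ᵁ ⊤) from s)
        rw [Scheme.Opens.ι_appIso]
        rfl }
  exact Module.Flat.of_linearEquiv eM

theorem subsingleton_HZ_of_koszulRegular (U : X.Opens) (F : X.Modules) [Coh.IsQCoh F]
    (hFl : FlatMod.IsFlat F) {W : X.Opens} (hW : IsAffineOpen W) (fs : List Γ(W.toScheme, ⊤))
    (hreg : LCI.IsKoszulRegularSeq Γ(W.toScheme, ⊤) fs)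
    (hU : (Opens.map (CohCx.incl (X := X.carrier) W)).obj (W ⊓ U) =
      ⨆ j : Fin fs.length, W.toScheme.basicOpen (fs.get j))
    (i : ℕ) (hi : i ≠ fs.length) :
    Subsingleton (LocCohZ.HZ (X := X.carrier) (Coh.toAb F) i (inf_le_left : W ⊓ U ≤ W)) := by
  haveI : IsAffine W.toScheme := hW
  obtain ⟨e, -⟩ := exists_natural_excision (X := X.carrier) (inf_le_left : W ⊓ U ≤ W) i
  obtain ⟨k⟩ := nonempty_koszulHLim_HZc (F.restrict W.ι) fs i
  haveI := isFlat_sections F hFl hW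
  haveI := subsingleton_koszulHLim ((F.restrict W.ι).val.obj (op ⊤) : Type u) hreg i hi
  have h1 : Subsingleton (LocCohZ.HZ (X := X.carrier) (Coh.toAb F) i (inf_le_left : W ⊓ U ≤ W)) ↔
      Subsingleton (LocCohZ.HZc (X := W.toScheme.carrier) (Coh.toAb (F.restrict W.ι)) i
        (⨆ j : Fin fs.length, W.toScheme.basicOpen (fs.get j))) := by
    rw [← hU]
    exact (e (Coh.toAb F)).toEquiv.subsingleton_congr
  rw [h1, ← k.toEquiv.subsingleton_congr]
  infer_instance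

theorem exists_list_of_le {V W : X.Opens} (hV : IsAffineOpen V) (g : Γ(X, V)) (hW : W = X.basicOpen g)
    (U : X.Opens) (fs : List Γ(X, V)) (hreg : LCI.IsKoszulRegularSeq Γ(X, V) fs)
    (h : X.zeroLocus (U := V) {a | a ∈ fs} ∩ (V : Set ↥X) = (U : Set ↥X)ᶜ ∩ (V : Set ↥X)) :
    ∃ gs : List Γ(W.toScheme, ⊤), gs.length = fs.length ∧ LCI.IsKoszulRegularSeq Γ(W.toScheme, ⊤) gs ∧
      (Opens.map (CohCx.incl (X := X.carrier) W)).obj (W ⊓ U) =
        ⨆ j : Fin gs.length, W.toScheme.basicOpen (gs.get j) := by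
  classical
  have hW' : W.ι ''ᵁ ⊤ = X.basicOpen g := by rw [W.ι_image_top, hW]
  have hle : W.ι ''ᵁ ⊤ ≤ V := hW'.le.trans (X.basicOpen_le g)
  letI : Algebra Γ(X, V) Γ(W.toScheme, ⊤) := (X.presheaf.map (homOfLE hle).op).hom.toAlgebra
  haveI : IsLocalization.Away g Γ(W.toScheme, ⊤) := hV.isLocalization_of_eq_basicOpen g (homOfLE hle) hW'
  haveI : Module.Flat Γ(X, V) Γ(W.toScheme, ⊤) := IsLocalization.flat _ (Submonoid.powers g)
  refine ⟨fs.map (algebraMap Γ(X, V) Γ(W.toScheme, ⊤)), List.length_map _,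
    RelDivLib.isKoszulRegularSeq_flat hreg, ?_⟩
  ext y
  simp only [Opens.coe_iSup, Set.mem_iUnion, SetLike.mem_coe]
  have hyW : y.1 ∈ W := y.2
  have hb : ∀ a : Γ(X, V), y ∈ W.toScheme.basicOpen (algebraMap Γ(X, V) Γ(W.toScheme, ⊤) a) ↔
      y.1 ∈ X.basicOpen a := by
    intro a
    refine Iff.trans ⟨fun hy => (show y.1 ∈ W.ι ''ᵁ W.toScheme.basicOpen _ from ⟨y, hy, rfl⟩), ?_⟩ ?_
    · rintro ⟨z, hz, hzy⟩
      obtain rfl : z = y := W.ι.isOpenEmbedding.injective hzy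
      exact hz
    · rw [W.ι_image_basicOpen]
      change y.1 ∈ X.basicOpen (X.presheaf.map (homOfLE hle).op a) ↔ _
      rw [Scheme.basicOpen_res]
      exact ⟨fun hy => hy.2, fun hy => ⟨W.ι_image_top.ge hyW, hy⟩⟩
  constructor
  · rintro ⟨-, hyU⟩
    by_contra hc
    push Not at hc
    have h0 : y.1 ∈ X.zeroLocus (U := V) {a | a ∈ fs} := by
      rw [Scheme.mem_zeroLocus_iff]
      intro a ha hxa
      obtain ⟨j, hj⟩ := List.mem_iff_get.1
        (List.mem_map_of_mem (f := algebraMap Γ(X, V) Γ(W.toScheme, ⊤)) ha)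
      exact hc j (hj ▸ (hb a).2 hxa)
    exact (h.le ⟨h0, hW'.le.trans (X.basicOpen_le g) (W.ι_image_top.ge hyW)⟩).1 hyU
  · rintro ⟨j, hj⟩
    refine ⟨hyW, ?_⟩
    by_contra hyU
    obtain ⟨a, ha, hea⟩ := List.mem_map.1 (List.get_mem (fs.map (algebraMap Γ(X, V) Γ(W.toScheme, ⊤))) j)
    rw [← hea, hb] at hj
    have h1 := (h.ge ⟨hyU, X.basicOpen_le g (hW ▸ hyW)⟩).1
    rw [Scheme.mem_zeroLocus_iff] at h1
    exact h1 a ha hj

theorem isZero_rightDerived_of_flat (U : X.Opens) [HasInjectiveResolutions X.Modules]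
    (c : ℕ) (hZ : ∀ x : X, ∃ (V : X.Opens) (fs : List Γ(X, V)), x ∈ V ∧ IsAffineOpen V ∧ fs.length = c ∧
      LCI.IsKoszulRegularSeq Γ(X, V) fs ∧
      X.zeroLocus (U := V) {a | a ∈ fs} ∩ (V : Set ↥X) = (U : Set ↥X)ᶜ ∩ (V : Set ↥X))
    (F : X.Modules) (hF : Coh.IsQCoh F) (hFl : FlatMod.IsFlat F) (i : ℕ) (hi : i ≠ c) :
    IsZero (((DCoh.gammaZ U.ι).rightDerived i).obj F) := by
  haveI := hF
  let B : Set X.Opens := {W | IsAffineOpen W ∧ ∃ fs : List Γ(W.toScheme, ⊤), fs.length = c ∧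
    LCI.IsKoszulRegularSeq Γ(W.toScheme, ⊤) fs ∧
    (Opens.map (CohCx.incl (X := X.carrier) W)).obj (W ⊓ U) =
      ⨆ j : Fin fs.length, W.toScheme.basicOpen (fs.get j)}
  have hB : Opens.IsBasis B := by
    refine Opens.isBasis_iff_nbhd.mpr fun {O x} hx => ?_
    obtain ⟨V, fs, hxV, hV, hlen, hreg, hUV⟩ := hZ x
    obtain ⟨g, hg, hxg⟩ := hV.exists_basicOpen_le ⟨x, hx⟩ hxV
    obtain ⟨gs, h1, h2, h3⟩ := exists_list_of_le hV g rfl U fs hreg hUV
    exact ⟨X.basicOpen g, ⟨hV.basicOpen g, gs, h1.trans hlen, h2, h3⟩, hxg, hg⟩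
  have hvan : ∀ W ∈ B, Subsingleton (LocCohZ.HZ (X := X.carrier) (Coh.toAb F) i (inf_le_left : W ⊓ U ≤ W)) := by
    rintro W ⟨hWa, gs, h1, h2, h3⟩
    exact subsingleton_HZ_of_koszulRegular U F hFl hWa gs h2 h3 i (by omega)
  refine isZero_of_HZsh U F i ?_
  rcases i with _ | p
  · exact isZero_HZsh_zero_of_basis hB _ hvan
  · exact isZero_HZsh_succ_of_basis hB _ p hvan

end Groth.Agent.LocVanLib
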