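import Groth.Agent.LocZLib.Basis
import Groth.Agent.LocZLib.QCohLC
import Groth.Agent.LocZLib.Derived
import Groth.Agent.LocZLib.Flasque
import Groth.Agent.CohBase.MV
import Groth.Agent.CohBase.Affine
import Groth.Agent.RpushLib.Closed

/-!
# Vanishing of local cohomology sheaves above the number of equations
-/

set_option autoImplicit false
set_option backward.isDefEq.respectTransparency false
set_option linter.style.haveILetI false
universe u

open CategoryTheory CategoryTheory.Limits AlgebraicGeometry TopologicalSpace Opposite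

noncomputable section

namespace Groth.Agent.LocVanLib

open Groth.Agent.LocZLib Groth.Agent.LocZLib.QCohLC

variable {X : Scheme.{u}}

theorem isZero_of_HZsh (U : X.Opens) [HasInjectiveResolutions X.Modules] (F : X.Modules) (i : ℕ)
    (h : IsZero ((LocCohZ.HZsh (X := X.carrier) U i).obj (Coh.toAb F))) :
    IsZero (((DCoh.gammaZ U.ι).rightDerived i).obj F) := by
  haveI : EnoughInjectives X.Modules := SiteBase.enoughInjectives_sheafOfModules _
  let e := ((SpSeqLib.rightDerivedPostcompIso (DCoh.gammaZ U.ι) (QCohLib.toAbF X) i).symm ≪≫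
    SpSeqLib.rightDerivedCongr (gammaZToAbIso U.ι ≪≫ Functor.isoWhiskerLeft _
      (eqToIso (congrArg (fun O => LocCohZ.sectSuppF (X := X.carrier) O) (Scheme.Opens.opensRange_ι U)))) i ≪≫
    SpSeqLib.rightDerivedPrecompAcyclicIso (QCohLib.toAbF X) (LocCohZ.sectSuppF (X := X.carrier) U)
      (fun I _ =>
        haveI : TopCat.Sheaf.IsFlasque ((QCohLib.toAbF X).obj I) :=
          isFlasque_of_surjective _ fun h => RpushLib.surjective_rM_injective I h
        fun q => isZero_HZsh_flasque U q ((QCohLib.toAbF X).obj I)) i).app F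
  have h2 : IsZero ((QCohLib.toAbF X).obj (((DCoh.gammaZ U.ι).rightDerived i).obj F)) := h.of_iso e
  refine (IsZero.iff_id_eq_zero _).2 ((QCohLib.toAbF X).map_injective ?_)
  exact h2.eq_of_src _ _

theorem subsingleton_HU_basic {V : X.Opens} (hV : IsAffineOpen V) (F : X.Modules) [Coh.IsQCoh F]
    {W : X.Opens} (fs : Finset Γ(X, V)) (hW : W = ⨆ f ∈ fs, X.basicOpen f) (n : ℕ) (hn : fs.card ≤ n) :
    Subsingleton (CohTop.HU (X := X.carrier) (Coh.toAb F) n W) := by
  classical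
  let g : Fin fs.card → Γ(X, V) := fun a => (fs.equivFin.symm a).1
  have e : W = ⨆ a, X.basicOpen (g a) := by
    rw [hW]
    refine le_antisymm (iSup₂_le fun f hf => ?_) (iSup_le fun a => le_biSup (fun f => X.basicOpen f) (fs.equivFin.symm a).2)
    refine le_of_eq_of_le ?_ (le_iSup (fun a => X.basicOpen (g a)) (fs.equivFin ⟨f, hf⟩))
    simp [g]
  rw [e]
  exact CohBase.subsingleton_HU_iUnion (Coh.toAb F) (fun O => ∃ f : Γ(X, V), O = X.basicOpen f)
    (fun {A B} ⟨a, ha⟩ ⟨b, hb⟩ => ⟨a * b, by rw [ha, hb, Scheme.basicOpen_mul]⟩)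
    (fun {A} ⟨a, ha⟩ m => ha ▸ CohBase.affine_vanishing F (hV.basicOpen a) m)
    fs.card (fun a => X.basicOpen (g a)) (fun a => ⟨g a, rfl⟩) n hn

theorem inf_eq_iSup (U V : X.Opens) (fs : Finset Γ(X, V))
    (h : X.zeroLocus (U := V) (↑fs : Set Γ(X, V)) ∩ (V : Set X) = (U : Set X)ᶜ ∩ (V : Set X))
    {W : X.Opens} (hle : W ≤ V) :
    W ⊓ U = ⨆ f ∈ fs, W ⊓ X.basicOpen f := by
  ext x
  simp only [Opens.coe_inf, Set.mem_inter_iff, SetLike.mem_coe, Opens.coe_iSup, Set.mem_iUnion]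
  constructor
  · rintro ⟨hx, hxU⟩
    by_contra hc
    push Not at hc
    have : x ∈ X.zeroLocus (U := V) (↑fs : Set Γ(X, V)) := by
      rw [Scheme.mem_zeroLocus_iff]
      exact fun f hf hxf => hc f hf hx hxf
    exact (h.le ⟨this, hle hx⟩).1 hxU
  · rintro ⟨f, hf, hx, hxf⟩
    refine ⟨hx, ?_⟩
    by_contra hxU
    have h1 := (h.ge ⟨hxU, hle hx⟩).1
    rw [Scheme.mem_zeroLocus_iff] at h1
    exact h1 f hf hxf

theorem isZero_rightDerived (U : X.Opens) [HasInjectiveResolutions X.Modules]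
    (c : ℕ) (hT : ∀ x : X, ∃ (V : X.Opens) (fs : Finset Γ(X, V)), x ∈ V ∧ fs.card ≤ c ∧
      X.zeroLocus (U := V) (↑fs : Set Γ(X, V)) ∩ (V : Set ↥X) = (U : Set ↥X)ᶜ ∩ (V : Set ↥X))
    (F : X.Modules) (hF : Coh.IsQCoh F) (i : ℕ) (hi : c < i) :
    IsZero (((DCoh.gammaZ U.ι).rightDerived i).obj F) := by
  classical
  haveI := hF
  obtain ⟨p, rfl⟩ : ∃ p, i = p + 1 := ⟨i - 1, by omega⟩
  refine isZero_of_HZsh U F (p + 1) (isZero_HZsh_succ_of_basis
    (B := {W : X.Opens | IsAffineOpen W ∧ ∃ fs : Finset Γ(X, W), fs.card ≤ c ∧ W ⊓ U = ⨆ f ∈ fs, X.basicOpen f})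
    ?_ _ p fun W hW => ?_)
  · refine Opens.isBasis_iff_nbhd.mpr fun {O x} hx => ?_
    obtain ⟨V, fs, hxV, hfs, hV⟩ := hT x
    obtain ⟨_, ⟨W : X.Opens, hW, rfl⟩, hxW, hWle⟩ :=
      X.isBasis_affineOpens.exists_subset_of_mem_open (a := x) (u := ↑(O ⊓ V)) ⟨hx, hxV⟩ (O ⊓ V).2
    have hWV : W ≤ V := fun y hy => (hWle hy).2
    refine ⟨W, ⟨hW, fs.image (X.presheaf.map (homOfLE hWV).op), Finset.card_image_le.trans hfs, ?_⟩,
      hxW, fun y hy => (hWle hy).1⟩
    rw [inf_eq_iSup U V fs hV hWV, Finset.iSup_finset_image]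
    refine iSup_congr fun f => iSup_congr fun _ => ?_
    exact (Scheme.basicOpen_res X f (homOfLE hWV).op).symm
  · obtain ⟨hWaff, fs, hfs, e⟩ := hW
    rw [subsingleton_HZ_succ_iff]
    haveI : Subsingleton (CohTop.HU (X := X.carrier) (Coh.toAb F) (p + 1) W) :=
      CohBase.affine_vanishing F hWaff p
    refine ⟨fun y => ⟨0, ?_⟩, Function.injective_of_subsingleton _⟩
    exact @Subsingleton.elim _ (subsingleton_HU_basic hWaff F fs e p (by omega)) _ _

end Groth.Agent.LocVanLib
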